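import Mathlib
import Cfsg.Agent.CpAut.RgdUntw
import Cfsg.Agent.H166.OutRGD
import Cfsg.Agent.BpExc.Fr
import Cfsg.Agent.H54.PQ.Defs

/-!
# S4981, defining characteristic `p`: Chevalley groups with a graph automorphism of order `p` (helper586)

`Gr hp K c α g j` : `α` is a graph automorphism of `D.group K` of order dividing `c`, commuting with the field
automorphisms and fixing the torus elements of the simple root `j`.

* `Gam α` : the abelian group of the graph and field automorphisms; `psi` : its action;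
* `not_inner` : no element `≠ 1` of `Gam α` acts as an inner automorphism.
-/

set_option autoImplicit false
set_option linter.unusedSectionVars false

namespace Cfsg.Agent.H586.PQ

open CoxeterSystem Cfsg.Agent.ChevalleyStructure.CoxeterGeom Cfsg.Agent.Tits.Roots Cfsg.Agent.Tits.Core
  Cfsg.Agent.Nodes.Reps Cfsg.Agent.Nodes.BNOf
  Cfsg.Agent.Nodes.OppDec Cfsg.Agent.Nodes.RGDChev
  Cfsg.Agent.KFacts.RgdAut Cfsg.Agent.KFacts.RgdDiag Cfsg.Agent.KFacts.RgdRigid
  Cfsg.Agent.KFacts.RgdField Cfsg.Agent.KFacts.RgdTau Cfsg.Agent.KFacts.RgdChevCoord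
  Cfsg.Agent.CpAut.RgdUntw Cfsg.Agent.BpExc.Fr
open Cfsg.Lie Cfsg.Agent.ChevalleyStructure Cfsg.Agent.ChevalleyStructure.Elts
  Cfsg.Agent.ChevalleyStructure.NPerm Cfsg.Agent.ChevalleyStructure.CoxeterGeomTypes
  Cfsg.Agent.ChevStructure.FieldMap

universe u

variable {D : ChevalleyDatum} {l : ℕ} {M : CoxeterMatrix (Fin l)} (hp : IsType D l M) {K : Type u} [Field K]

/-! ### field automorphisms -/

theorem coe_fld_xG (τ : K ≃+* K) (g : ↥(D.group K)) {r : ℕ} {t : K}
    (hg : (g : GL D.Idx K) = xG hp.inList r t) :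
    ((fld D τ g : ↥(D.group K)) : GL D.Idx K) = xG hp.inList r (τ t) := by
  apply Units.ext
  rw [fld_coe, hg, coe_xG, coe_xG]
  exact x_map D (τ : K →+* K) r t

/-- `x_r(t)` as an element of the group -/
noncomputable def xe (r : ℕ) (t : K) : ↥(D.group K) := ⟨xG hp.inList r t, xG_mem_group hp.inList r t⟩

theorem fld_xe (τ : K ≃+* K) (r : ℕ) (t : K) : fld D τ (xe hp r t) = xe hp r (τ t) :=
  Subtype.ext (coe_fld_xG hp τ _ rfl)

/-- `n_r(t)` as an element of the group -/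
noncomputable def ne (r : ℕ) (t : K) : ↥(D.group K) := xe hp r t * (xe hp (D.neg r) (-t⁻¹) * xe hp r t)

theorem coe_ne (r : ℕ) (t : K) : ((ne hp r t : ↥(D.group K)) : GL D.Idx K) = nG hp.inList r t := by
  rw [nG_def]
  rfl

theorem fld_ne (τ : K ≃+* K) (r : ℕ) (t : K) : fld D τ (ne hp r t) = ne hp r (τ t) := by
  rw [ne, ne, map_mul, map_mul, fld_xe, fld_xe, map_neg, map_inv₀]

theorem fld_nc (τ : K ≃+* K) (i : Fin l) : fld D τ (nc hp K i) = nc hp K i := by
  have h1 : nc hp K i = ne hp (D.simple i) 1 := Subtype.ext (coe_ne hp _ _).symm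
  rw [h1, fld_ne, map_one]

theorem fld_hc (τ : K ≃+* K) (j : Fin l) (u : K) : fld D τ (hc hp j u) = hc hp j (τ u) := by
  have h1 : ∀ u : K, hc hp j u = ne hp (D.simple j) u * ne hp (D.simple j) (-1) := fun u =>
    Subtype.ext (by
      rw [Subgroup.coe_mul, coe_ne, coe_ne]
      exact hG_def hp.inList _ _)
  rw [h1, h1, map_mul, fld_ne, fld_ne, map_neg, map_one]


/-! ### graph automorphisms -/

/-- a graph automorphism of order dividing `c` -/
structure Gr (K : Type u) [Field K] (c : ℕ) (α : MulAut ↥(D.group K)) (g : (Fin l → ℤ) ≃+ (Fin l → ℤ))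
    (j : Fin l) : Prop where
  fr : Fr M.toCoxeterSystem hp.isCartan (TT D K) (XX D l K) α g
  pos : ∀ x : Fin l → ℤ, (∀ i, 0 ≤ x i) → ∀ i, 0 ≤ g x i
  moves : ∃ i : Fin l, g (sr i) ≠ sr i
  pow : α ^ c = 1
  comm : ∀ τ : K ≃+* K, fld D τ * α = α * fld D τ
  fix : ∀ u : K, u ≠ 0 → α (hc hp j u) = hc hp j u

variable {hp} {c : ℕ} {α : MulAut ↥(D.group K)} {g : (Fin l → ℤ) ≃+ (Fin l → ℤ)} {j : Fin l}

/-- the group of the graph and field automorphisms -/
abbrev Gam (α : MulAut ↥(D.group K)) : Type u := ↥(Subgroup.zpowers α) × (K ≃+* K)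

theorem Gr.comm_zpow (H : Gr hp K c α g j) (τ : K ≃+* K) (β : ↥(Subgroup.zpowers α)) :
    fld D τ * (β : MulAut ↥(D.group K)) = β * fld D τ := by
  obtain ⟨n, hn⟩ := β.2
  rw [← hn]
  exact (Commute.zpow_right (H.comm τ) n)

/-- the action of the graph and field automorphisms -/
noncomputable def psi (H : Gr hp K c α g j) : Gam α →* MulAut ↥(D.group K) where
  toFun γ := γ.1 * fld D γ.2
  map_one' := by
    show (1 : MulAut ↥(D.group K)) * fld D 1 = 1
    rw [fld_one, one_mul]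
  map_mul' γ δ := by
    show ((γ.1 : MulAut ↥(D.group K)) * δ.1) * fld D (γ.2 * δ.2) = (γ.1 * fld D γ.2) * (δ.1 * fld D δ.2)
    rw [fld_mul, mul_assoc, ← mul_assoc (δ.1 : MulAut ↥(D.group K)), ← H.comm_zpow γ.2 δ.1, mul_assoc, mul_assoc]

theorem psi_apply (H : Gr hp K c α g j) (γ : Gam α) : psi H γ = γ.1 * fld D γ.2 := rfl

/-- a frame automorphism preserving positivity -/
structure PFr (hp : IsType D l M) (β : MulAut ↥(D.group K)) (g : (Fin l → ℤ) ≃+ (Fin l → ℤ)) : Prop where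
  fr : Fr M.toCoxeterSystem hp.isCartan (TT D K) (XX D l K) β g
  pos : ∀ x : Fin l → ℤ, (∀ i, 0 ≤ x i) → ∀ i, 0 ≤ g x i

theorem PFr.one : PFr hp (1 : MulAut ↥(D.group K)) (AddEquiv.refl (Fin l → ℤ)) := ⟨Fr.one, fun _ h => h⟩

theorem PFr.mul {β β' : MulAut ↥(D.group K)} {g g' : (Fin l → ℤ) ≃+ (Fin l → ℤ)} (h : PFr hp β g)
    (h' : PFr hp β' g') : PFr hp (β * β') (g'.trans g) :=
  ⟨h.fr.mul h'.fr, fun x hx => h.pos _ (h'.pos x hx)⟩

theorem PFr.pow {β : MulAut ↥(D.group K)} {g : (Fin l → ℤ) ≃+ (Fin l → ℤ)} (h : PFr hp β g) (n : ℕ) :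
    ∃ g', PFr hp (β ^ n) g' := by
  induction n with
  | zero => exact ⟨_, by rw [pow_zero]; exact PFr.one⟩
  | succ n ih =>
    obtain ⟨g', hg'⟩ := ih
    exact ⟨_, by rw [pow_succ]; exact hg'.mul h⟩

theorem fr_fld (τ : K ≃+* K) (hT : ∀ t, fld D τ t ∈ TT D K ↔ t ∈ TT D K) :
    PFr hp (fld D τ : MulAut ↥(D.group K)) (AddEquiv.refl (Fin l → ℤ)) where
  pos _ h := h
  fr :=
    { tor := hT
      root := fun _ => Iff.rfl
      map := by
        intro a ha y
        obtain ⟨r, hr, rfl⟩ := (isRoot_iff hp _ a).1 ha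
        have key : ∀ (τ : K ≃+* K) (y : ↥(D.group K)), y ∈ XX D l K (vec D l r) → fld D τ y ∈ XX D l K (vec D l r) := by
          intro τ y hy
          rw [Subgroup.mem_subgroupOf, XV_vec hp K hr] at hy ⊢
          obtain ⟨t, ht⟩ := (mem_rootSubgroup_iff hp.inList _ _).1 hy
          rw [coe_fld_xG hp τ y ht]
          exact xG_mem_rootSubgroup _ _ _
        refine ⟨fun h => ?_, key τ y⟩
        have h1 := key τ⁻¹ _ h
        have h2 : fld D τ⁻¹ (fld D τ y) = y := by
          rw [← MulAut.mul_apply, ← fld_mul, inv_mul_cancel, fld_one, MulAut.one_apply]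
        exact h2 ▸ h1 }

theorem mem_TT_fld (τ : K ≃+* K) (hp : IsType D l M) (t : ↥(D.group K)) : fld D τ t ∈ TT D K ↔ t ∈ TT D K := by
  have key : ∀ (τ : K ≃+* K) (t : ↥(D.group K)), t ∈ TT D K → fld D τ t ∈ TT D K := by
    intro τ t ht
    have h1 : D.diagonalSubgroup K ≤ (D.diagonalSubgroup K).comap (Matrix.GeneralLinearGroup.map (τ : K →+* K)) := by
      rw [diagonal_le_iff hp.inList]
      intro r hr t ht
      have h2 : Matrix.GeneralLinearGroup.map (τ : K →+* K) (hG hp.inList r t) = hG hp.inList r (τ t) := by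
        have key : ∀ c, Matrix.GeneralLinearGroup.map (τ : K →+* K) (xG hp.inList r c) = xG hp.inList r (τ c) := fun c =>
          Units.ext (x_map D (τ : K →+* K) r c)
        have key' : ∀ c, Matrix.GeneralLinearGroup.map (τ : K →+* K) (xG hp.inList (D.neg r) c) =
            xG hp.inList (D.neg r) (τ c) := fun c => Units.ext (x_map D (τ : K →+* K) (D.neg r) c)
        simp only [hG_def, nG_def, map_mul, key, key', map_neg, map_inv₀, map_one]
      rw [Subgroup.mem_comap, h2]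
      exact hG_mem_diagonal hp.inList hr ((map_ne_zero (τ : K →+* K)).2 ht)
    rw [Subgroup.mem_subgroupOf] at ht ⊢
    exact h1 ht
  refine ⟨fun h => ?_, key τ t⟩
  have h1 := key τ⁻¹ _ h
  have h2 : fld D τ⁻¹ (fld D τ t) = t := by
    rw [← MulAut.mul_apply, ← fld_mul, inv_mul_cancel, fld_one, MulAut.one_apply]
  exact h2 ▸ h1

/-- every element of `Gam` is a frame automorphism preserving positivity -/
theorem psi_fr [Finite ↥(Subgroup.zpowers α)] (H : Gr hp K c α g j) (γ : Gam α) : ∃ g', PFr hp (psi H γ) g' := by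
  obtain ⟨n, hn⟩ : ∃ n : ℕ, α ^ n = γ.1 := by
    have h1 : IsOfFinOrder α := by
      rwa [← finite_zpowers]
    have h2 := γ.1.2
    rwa [← h1.mem_powers_iff_mem_zpowers] at h2
  obtain ⟨g', hg'⟩ := PFr.pow ⟨H.fr, H.pos⟩ n
  rw [psi_apply, ← hn]
  exact ⟨_, hg'.mul (fr_fld γ.2 fun t => mem_TT_fld γ.2 hp t)⟩

/-- every element of `Gam` maps the group of the positive roots onto itself -/
theorem PFr.fixU {β : MulAut ↥(D.group K)} {g : (Fin l → ℤ) ≃+ (Fin l → ℤ)} (h : PFr hp β g) :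
    ∀ y ∈ RGD.Sup (XX D l K) (RGD.Pos M.toCoxeterSystem hp.isCartan),
      β y ∈ RGD.Sup (XX D l K) (RGD.Pos M.toCoxeterSystem hp.isCartan) := by
  have h1 : RGD.Sup (XX D l K) (RGD.Pos M.toCoxeterSystem hp.isCartan) ≤
      (RGD.Sup (XX D l K) (RGD.Pos M.toCoxeterSystem hp.isCartan)).comap (β : ↥(D.group K) →* ↥(D.group K)) := by
    refine RGD.Sup_le fun x hx y hy => ?_
    exact RGD.le_Sup (S := RGD.Pos M.toCoxeterSystem hp.isCartan) ⟨(h.fr.root x).2 hx.1, h.pos x hx.2⟩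
      ((h.fr.map x hx.1 y).2 hy)
  exact fun y hy => h1 hy

theorem PFr.fixUN {β : MulAut ↥(D.group K)} {g : (Fin l → ℤ) ≃+ (Fin l → ℤ)} (h : PFr hp β g) :
    ∀ y ∈ RGD.Sup (XX D l K) (Neg M.toCoxeterSystem hp.isCartan),
      β y ∈ RGD.Sup (XX D l K) (Neg M.toCoxeterSystem hp.isCartan) := by
  have h1 : RGD.Sup (XX D l K) (Neg M.toCoxeterSystem hp.isCartan) ≤
      (RGD.Sup (XX D l K) (Neg M.toCoxeterSystem hp.isCartan)).comap (β : ↥(D.group K) →* ↥(D.group K)) := by
    refine RGD.Sup_le fun x hx y hy => ?_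
    refine RGD.le_Sup (S := Neg M.toCoxeterSystem hp.isCartan) ⟨(h.fr.root x).2 hx.1, ?_⟩
      ((h.fr.map x hx.1 y).2 hy)
    have h2 := h.pos (-x) (fun i => by have : x i ≤ 0 := hx.2 i; rw [Pi.neg_apply]; omega)
    intro i
    have h3 := h2 i
    rw [map_neg, Pi.neg_apply] at h3
    have : g x i ≤ 0 := by omega
    exact this
  exact fun y hy => h1 hy

theorem psi_fixU [Finite ↥(Subgroup.zpowers α)] (H : Gr hp K c α g j) (γ : Gam α) :
    Cfsg.Agent.KFacts.RgdAut.Fix (psi H γ) (RGD.Sup (XX D l K) (RGD.Pos M.toCoxeterSystem hp.isCartan)) := by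
  intro y
  obtain ⟨g1, h1⟩ := psi_fr H γ
  obtain ⟨g2, h2⟩ := psi_fr H γ⁻¹
  refine ⟨fun h => ?_, h1.fixU y⟩
  have h3 := h2.fixU _ h
  rwa [map_inv, MulAut.inv_apply_self] at h3

theorem psi_fixUN [Finite ↥(Subgroup.zpowers α)] (H : Gr hp K c α g j) (γ : Gam α) :
    Cfsg.Agent.KFacts.RgdAut.Fix (psi H γ) (UN M.toCoxeterSystem hp.isCartan (XX D l K)) := by
  intro y
  obtain ⟨g1, h1⟩ := psi_fr H γ
  obtain ⟨g2, h2⟩ := psi_fr H γ⁻¹
  refine ⟨fun h => ?_, h1.fixUN y⟩
  have h3 := h2.fixUN _ h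
  rwa [map_inv, MulAut.inv_apply_self] at h3

theorem psi_mem_T [Finite ↥(Subgroup.zpowers α)] (H : Gr hp K c α g j) (γ : Gam α) {t : ↥(D.group K)}
    (ht : t ∈ TT D K) : psi H γ t ∈ TT D K := by
  obtain ⟨g1, h1⟩ := psi_fr H γ
  exact (h1.fr.tor t).2 ht

theorem mem_zpowers_of_prime {G : Type*} [Group G] {a b : G} {c : ℕ} (hc : c.Prime) (ha : a ^ c = 1)
    (hb : b ∈ Subgroup.zpowers a) (hb1 : b ≠ 1) : a ∈ Subgroup.zpowers b := by
  have h0 : orderOf a = c := by
    rcases (Nat.dvd_prime hc).1 (orderOf_dvd_of_pow_eq_one ha) with h | h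
    · exfalso
      rw [orderOf_eq_one_iff] at h
      subst h
      rw [Subgroup.zpowers_one_eq_bot, Subgroup.mem_bot] at hb
      exact hb1 hb
    · exact h
  have h1 : Nat.card ↥(Subgroup.zpowers a) = c := by rw [Nat.card_zpowers, h0]
  have hfin : Finite ↥(Subgroup.zpowers a) := Nat.finite_of_card_ne_zero (by rw [h1]; exact hc.ne_zero)
  have h2 : Subgroup.zpowers b ≤ Subgroup.zpowers a := by
    rw [Subgroup.zpowers_le]
    exact hb
  have h3 : Nat.card ↥(Subgroup.zpowers b) = c := by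
    have h4 := Subgroup.card_dvd_of_le h2
    rw [h1] at h4
    rcases (Nat.dvd_prime hc).1 h4 with h | h
    · exfalso
      rw [Nat.card_zpowers, orderOf_eq_one_iff] at h
      exact hb1 h
    · exact h
  have h4 : Subgroup.zpowers b = Subgroup.zpowers a := by
    apply Subgroup.eq_of_le_of_card_ge h2
    rw [h1, h3]
  rw [h4]
  exact Subgroup.mem_zpowers a

/-- **no graph or field automorphism is inner** -/
theorem not_inner [Finite K] (p : ℕ) [Fact p.Prime] [CharP K p] (hc : c.Prime) (H : Gr hp K c α g j)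
    (hl : 0 < l) {γ : Gam α} (hγ : γ ≠ 1) : psi H γ ∉ Cfsg.Inn ↥(D.group K) := by
  rintro ⟨s, hs⟩
  have hW := finite_W hp (M.toCoxeterSystem)
  have R := rgd (K := K) hp M.toCoxeterSystem p
  have hG1 : RGD.Sup (XX D l K) {x | IsRoot M.toCoxeterSystem hp.isCartan x} = ⊤ := G1_eq_top hp M.toCoxeterSystem
  have C := coords (K := K) hp M.toCoxeterSystem p
  have hfin : Finite ↥(Subgroup.zpowers α) := inferInstance
  have hsT : s ∈ TT D K := by
    refine Cfsg.Agent.H166.OutRGD.mem_T_of_frame R (GG_eq_top (T := TT D K) hG1) ?_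
    rw [mem_Frame]
    have h1 : MulAut.conj s = psi H γ := hs
    rw [h1]
    exact ⟨psi_fixU H γ, psi_fixUN H γ⟩
  have h1 : γ.1 = 1 := by
    by_contra h1
    have h1' : (γ.1 : MulAut ↥(D.group K)) ≠ 1 := fun h => h1 (Subtype.ext h)
    have h2 : α ∈ Subgroup.zpowers (γ.1 : MulAut ↥(D.group K)) := mem_zpowers_of_prime hc H.pow γ.1.2 h1'
    obtain ⟨i, hi⟩ := H.moves
    have hir : IsRoot M.toCoxeterSystem hp.isCartan (sr i) := isRoot_sr _ _ i
    have h3 : ∀ y ∈ XX D l K (sr i), (γ.1 : MulAut ↥(D.group K)) y ∈ XX D l K (sr i) := by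
      intro y hy
      have h4 := fr_fld (hp := hp) γ.2⁻¹ fun t => mem_TT_fld γ.2⁻¹ hp t
      have h5 := (h4.fr.map _ hir y).2 hy
      have h6 : (γ.1 : MulAut ↥(D.group K)) y = psi H γ (fld D γ.2⁻¹ y) := by
        rw [psi_apply, MulAut.mul_apply, ← MulAut.mul_apply _ (fld D γ.2), ← fld_mul, mul_inv_cancel, fld_one,
          MulAut.one_apply]
      rw [h6, ← hs]
      have h7 : cj s (XX D l K (sr i)) = XX D l K (sr i) := R.tor (sr i) hir s hsT
      have h9 : MulAut.conj s (fld D γ.2⁻¹ y) ∈ cj s (XX D l K (sr i)) := by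
        rw [mem_cj, MulAut.conj_apply]
        have h8 : s⁻¹ * (s * fld D γ.2⁻¹ y * s⁻¹) * s = fld D γ.2⁻¹ y := by group
        rw [h8]
        exact h5
      rwa [h7] at h9
    have h4 : ∀ y ∈ XX D l K (sr i), α y ∈ XX D l K (sr i) := by
      have h5 : IsOfFinOrder (γ.1 : MulAut ↥(D.group K)) := isOfFinOrder_of_finite _
      rw [← h5.mem_powers_iff_mem_zpowers] at h2
      obtain ⟨m, hm⟩ := h2
      rw [← hm]
      clear hm
      intro y hy
      induction m with
      | zero => simpa using hy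
      | succ m ih =>
        have e : ((fun x => (γ.1 : MulAut ↥(D.group K)) ^ x) (m + 1)) y =
            (γ.1 : MulAut ↥(D.group K)) (((fun x => (γ.1 : MulAut ↥(D.group K)) ^ x) m) y) := by
          show ((γ.1 : MulAut ↥(D.group K)) ^ (m + 1)) y = _
          rw [pow_succ', MulAut.mul_apply]
        rw [e]
        exact h3 _ ih
    obtain ⟨y, hy, hy1⟩ := Cfsg.Agent.Nodes.Bruhat.exists_ne_one R i
    have h5 := X_inf_X R ((H.fr.root _).2 hir) hir hi
    rw [Subgroup.eq_bot_iff_forall] at h5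
    exact hy1 (α.injective (by rw [h5 _ ⟨(H.fr.map _ hir y).2 hy, h4 y hy⟩, map_one]))
  have h2 : γ.2 = 1 := by
    have hir : IsRoot M.toCoxeterSystem hp.isCartan (sr (⟨0, hl⟩ : Fin l)) := isRoot_sr _ _ _
    obtain ⟨r, hr, hr'⟩ := (isRoot_iff hp _ _).1 hir
    have h3 : ∀ a, s * xc hp (vec D l r) a * s⁻¹ = xc hp (vec D l r) (γ.2 a) := by
      intro a
      rw [← MulAut.conj_apply, show MulAut.conj s = psi H γ from hs, psi_apply, h1, MulAut.mul_apply,
        fld_xc hp γ.2 hr a]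
      rfl
    have h4 := (act hp hr hsT).2
    have h5 : ch hp (vec D l r) s = 1 := by
      have h6 := h3 1
      rw [h4, map_one, mul_one] at h6
      exact xc_inj hp hr h6
    ext a
    have h6 := h3 a
    rw [h4, h5, one_mul] at h6
    exact (xc_inj hp hr h6).symm
  exact hγ (Prod.ext h1 h2)

end Cfsg.Agent.H586.PQ
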